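import Mathlib

set_option autoImplicit false
open Finset

namespace Groth.Agent.VerlindeCombLib

noncomputable def e (N : ℕ) (x : ℤ) : ℂ :=
  Complex.exp (2 * Real.pi * Complex.I * (x : ℂ) / (N : ℂ))

theorem e_add (N : ℕ) (x y : ℤ) : e N (x + y) = e N x * e N y := by
  rw [e, e, e, ← Complex.exp_add]; push_cast; ring_nf

theorem e_zero (N : ℕ) : e N 0 = 1 := by simp [e]

theorem e_sum (N : ℕ) {ι : Type*} (s : Finset ι) (f : ι → ℤ) :
    e N (∑ i ∈ s, f i) = ∏ i ∈ s, e N (f i) := by
  classical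
  induction s using Finset.induction_on with
  | empty => simp [e_zero]
  | insert a s ha ih => rw [sum_insert ha, prod_insert ha, e_add, ih]

theorem e_self_mul {N : ℕ} (hN : N ≠ 0) (m : ℤ) : e N (N * m) = 1 := by
  have : (N : ℂ) ≠ 0 := Nat.cast_ne_zero.mpr hN
  rw [e, ← Complex.exp_int_mul_two_pi_mul_I m]
  congr 1
  push_cast
  field_simp

theorem e_congr {N : ℕ} (hN : N ≠ 0) {x y : ℤ} (h : (N : ℤ) ∣ y - x) : e N x = e N y := by
  obtain ⟨m, hm⟩ := h
  rw [show y = x + N * m by omega, e_add, e_self_mul hN, mul_one]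

theorem e_eq_one {N : ℕ} (hN : N ≠ 0) {x : ℤ} (h : e N x = 1) : (N : ℤ) ∣ x := by
  obtain ⟨m, hm⟩ := Complex.exp_eq_one_iff.mp h
  have : (N : ℂ) ≠ 0 := Nat.cast_ne_zero.mpr hN
  refine ⟨m, ?_⟩
  have h2 : (x : ℂ) = (N : ℂ) * m := by
    apply mul_left_cancel₀ Complex.two_pi_I_ne_zero
    rw [div_eq_iff this] at hm
    linear_combination hm
  exact_mod_cast h2

theorem sum_e_mul {N : ℕ} (hN : N ≠ 0) {d : ℤ} (h : ¬ (N : ℤ) ∣ d) :
    ∑ x : Fin N, e N (d * ((x : ℕ) : ℤ)) = 0 := by
  have hne : e N d ≠ 1 := fun h1 => h (e_eq_one hN h1)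
  have hpow : ∀ n : ℕ, e N (d * (n : ℤ)) = e N d ^ n := by
    intro n
    induction n with
    | zero => simp [e_zero]
    | succ n ih => rw [Nat.cast_succ, mul_add, mul_one, e_add, ih, pow_succ]
  simp only [hpow]
  rw [Fin.sum_univ_eq_sum_range (fun n => e N d ^ n), geom_sum_eq hne, ← hpow,
    mul_comm d, e_self_mul hN, sub_self, zero_div]

variable {r : ℕ}

noncomputable def A (N : ℕ) (μ v : Fin r → ℤ) : ℂ :=
  (Matrix.of fun i j : Fin r => e N (μ i * v j)).det

noncomputable def u (r N : ℕ) (T x : ℤ) : ℂ :=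
  Complex.exp (-(2 * Real.pi * Complex.I * (T : ℂ) * (x : ℂ)) / ((r : ℂ) * (N : ℂ)))

theorem u_add (r N : ℕ) (T x y : ℤ) : u r N T (x + y) = u r N T x * u r N T y := by
  rw [u, u, u, ← Complex.exp_add]; push_cast; ring_nf

noncomputable def GI (N : ℕ) (T : ℤ) (μ μ' v : Fin r → ℤ) : ℂ :=
  (∏ j, u r N T (v j)) * A N μ v * A N μ' v

theorem A_add_const (N : ℕ) (μ v : Fin r → ℤ) (c : ℤ) :
    A N μ (fun j => v j + c) = e N ((∑ i, μ i) * c) * A N μ v := by
  rw [sum_mul, e_sum]
  unfold A
  rw [← Matrix.det_mul_column]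
  congr 1
  ext i j
  simp only [Matrix.of_apply]
  rw [← e_add]
  ring_nf

theorem A_perm (N : ℕ) (μ v : Fin r → ℤ) (π : Equiv.Perm (Fin r)) :
    A N μ (fun j => v (π j)) = (Equiv.Perm.sign π : ℤ) * A N μ v :=
  Matrix.det_permute' π (Matrix.of fun i j => e N (μ i * v j))

theorem GI_add_const {N : ℕ} (hN : N ≠ 0) (hr : r ≠ 0) (T : ℤ) (μ μ' v : Fin r → ℤ)
    (hT : T = ∑ i, μ i + ∑ i, μ' i) (c : ℤ) :
    GI N T μ μ' (fun j => v j + c) = GI N T μ μ' v := by
  unfold GI
  have h1 : u r N T c ^ r = e N (-(T * c)) := by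
    rw [u, e, ← Complex.exp_nat_mul]
    congr 1
    have : (r : ℂ) ≠ 0 := Nat.cast_ne_zero.mpr hr
    have : (N : ℂ) ≠ 0 := Nat.cast_ne_zero.mpr hN
    push_cast
    field_simp
  have h2 : e N (-(T * c)) * (e N ((∑ i, μ i) * c) * e N ((∑ i, μ' i) * c)) = 1 := by
    rw [← e_add, ← e_add, hT, show ∀ a b : ℤ, -((a + b) * c) + (a * c + b * c) = 0 by intros; ring,
      e_zero]
  simp only [u_add, prod_mul_distrib, prod_const, card_univ, Fintype.card_fin, h1, A_add_const]
  linear_combination ((∏ j, u r N T (v j)) * A N μ v * A N μ' v) * h2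

theorem GI_perm (N : ℕ) (T : ℤ) (μ μ' v : Fin r → ℤ) (π : Equiv.Perm (Fin r)) :
    GI N T μ μ' (fun j => v (π j)) = GI N T μ μ' v := by
  unfold GI
  rw [A_perm, A_perm, Equiv.prod_comp π (fun j => u r N T (v j))]
  have : ((Equiv.Perm.sign π : ℤ) : ℂ) * (Equiv.Perm.sign π : ℤ) = 1 := by
    rw [← Int.cast_mul, ← Units.val_mul, Int.units_mul_self, Units.val_one, Int.cast_one]
  linear_combination ((∏ j, u r N T (v j)) * A N μ v * A N μ' v) * this

theorem GI_update {N : ℕ} (hN : N ≠ 0) (T : ℤ) (μ μ' v : Fin r → ℤ) (i : Fin r) :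
    GI N T μ μ' (Function.update v i (v i + N)) = u r N T N * GI N T μ μ' v := by
  have hA : ∀ μ : Fin r → ℤ, A N μ (Function.update v i (v i + N)) = A N μ v := by
    intro μ
    unfold A
    congr 1
    ext a b
    simp only [Matrix.of_apply]
    by_cases hb : b = i
    · subst hb
      rw [Function.update_self]
      exact e_congr hN ⟨-μ a, by ring⟩
    · rw [Function.update_of_ne hb]
  have hu : ∏ j, u r N T (Function.update v i (v i + N) j) = u r N T N * ∏ j, u r N T (v j) := by
    have : (fun j => u r N T (Function.update v i (v i + N) j)) =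
        Function.update (fun j => u r N T (v j)) i (u r N T (v i + N)) := by
      ext j; by_cases hj : j = i <;> simp [hj]
    rw [this, prod_update_of_mem (mem_univ i),
      ← mul_prod_erase univ (fun j => u r N T (v j)) (mem_univ i), u_add, sdiff_singleton_eq_erase]
    ring
  unfold GI
  rw [hA, hA, hu]
  ring

/-- The set of strictly decreasing residues ending in zero. -/
def vset (m N : ℕ) : Finset (Fin (m + 2) → Fin N) :=
  univ.filter (fun v : Fin (m + 2) → Fin N =>
    StrictAnti v ∧ ∀ i : Fin (m + 2), (i : ℕ) = (m + 2) - 1 → (v i : ℕ) = 0)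

theorem mem_vset {m N : ℕ} [NeZero N] {v : Fin (m + 2) → Fin N} :
    v ∈ vset m N ↔ StrictAnti v ∧ v (Fin.last (m + 1)) = 0 := by
  simp only [vset, mem_filter, mem_univ, true_and]
  refine and_congr_right fun _ => ⟨fun h => Fin.ext (h _ rfl), fun h i hi => ?_⟩
  rw [show i = Fin.last (m + 1) from Fin.ext hi, h]; rfl

/-- Integer lift. -/
def lift {r N : ℕ} (v : Fin r → Fin N) : Fin r → ℤ := fun i => ((v i : ℕ) : ℤ)

theorem sum_eq_zero_of_twist {m N : ℕ} [NeZero N] (T : ℤ) (μ μ' : Fin (m + 2) → ℤ)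
    (hT : T = ∑ i, μ i + ∑ i, μ' i) (hω : u (m + 2) N T N ≠ 1) :
    ∑ v ∈ vset m N, GI N T μ μ' (lift v) = 0 := by
  classical
  let rot : (Fin (m + 2) → Fin N) → (Fin (m + 2) → Fin N) := fun v =>
    Fin.cons (0 - v (Fin.last m).castSucc) fun i => v i.castSucc - v (Fin.last m).castSucc
  have hc : ∀ v ∈ vset m N, v (Fin.last m).castSucc ≠ 0 := by
    intro v hv h
    obtain ⟨h1, h2⟩ := mem_vset.mp hv
    have := h1 (Fin.castSucc_lt_last (Fin.last m))
    rw [h, h2] at this
    exact lt_irrefl _ this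
  have hle : ∀ v ∈ vset m N, ∀ i : Fin (m + 1), v (Fin.last m).castSucc ≤ v i.castSucc :=
    fun v hv i => (mem_vset.mp hv).1.antitone (Fin.castSucc_le_castSucc_iff.mpr (Fin.le_last i))
  have hval0 : ∀ v ∈ vset m N,
      ((0 - v (Fin.last m).castSucc : Fin N) : ℕ) = N - (v (Fin.last m).castSucc : ℕ) := by
    intro v hv
    rw [zero_sub, Fin.val_neg, if_neg (hc v hv)]
  have hmem : ∀ v ∈ vset m N, rot v ∈ vset m N := by
    intro v hv
    refine mem_vset.mpr ⟨?_, ?_⟩
    · rw [Fin.strictAnti_iff_succ_lt]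
      intro i
      induction i using Fin.cases with
      | zero =>
        rw [Fin.lt_def, Fin.castSucc_zero]
        simp only [rot, Fin.cons_zero, Fin.cons_succ, hval0 v hv,
          Fin.sub_val_of_le (hle v hv _)]
        have := (v (Fin.castSucc (0 : Fin (m + 1)))).isLt
        have := hle v hv 0
        rw [Fin.le_def] at this
        omega
      | succ i =>
        rw [Fin.lt_def, ← Fin.succ_castSucc]
        simp only [rot, Fin.cons_succ, Fin.sub_val_of_le (hle v hv _)]
        have h1 := hle v hv i.succ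
        have h2 := (mem_vset.mp hv).1
          (Fin.castSucc_lt_castSucc_iff.mpr (Fin.castSucc_lt_succ (i := i)))
        rw [Fin.le_def] at h1
        rw [Fin.lt_def] at h2
        omega
    · rw [← Fin.succ_last]
      simp [rot]
  have hinj : Set.InjOn rot (vset m N) := by
    intro v hv w hw h
    have h0 : v (Fin.last m).castSucc = w (Fin.last m).castSucc := by
      have := congrFun h 0
      simpa [rot] using this
    ext i
    induction i using Fin.lastCases with
    | last => rw [(mem_vset.mp hv).2, (mem_vset.mp hw).2]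
    | cast i =>
      have := congrFun h i.succ
      simp only [rot, Fin.cons_succ, h0] at this
      rw [sub_left_inj.mp this]
  have hG : ∀ v ∈ vset m N, GI N T μ μ' (lift (rot v)) = u (m + 2) N T N * GI N T μ μ' (lift v) := by
    intro v hv
    set c : ℤ := ((v (Fin.last m).castSucc : ℕ) : ℤ) with hc'
    let π : Equiv.Perm (Fin (m + 2)) := (finRotate (m + 2)).symm
    have hπ0 : π 0 = Fin.last (m + 1) := by
      rw [Equiv.symm_apply_eq, finRotate_apply, Fin.last_add_one]
    have hπs : ∀ i : Fin (m + 1), π i.succ = i.castSucc := fun i => by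
      rw [Equiv.symm_apply_eq, finRotate_apply, Fin.coeSucc_eq_succ]
    have e1 : lift (rot v) = Function.update (fun j => lift v (π j) + -c) 0
        ((fun j => lift v (π j) + -c) 0 + N) := by
      ext i
      induction i using Fin.cases with
      | zero =>
        rw [Function.update_self]
        simp only [lift, rot, Fin.cons_zero, hval0 v hv, hπ0, (mem_vset.mp hv).2, Fin.val_zero]
        have := (v (Fin.last m).castSucc).isLt
        omega
      | succ i =>
        rw [Function.update_of_ne (Fin.succ_ne_zero i)]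
        simp only [lift, rot, Fin.cons_succ, hπs, Fin.sub_val_of_le (hle v hv _)]
        have := hle v hv i
        rw [Fin.le_def] at this
        omega
    rw [e1, GI_update (NeZero.ne N),
      GI_add_const (NeZero.ne N) (by omega) T μ μ' (fun j => lift v (π j)) hT, GI_perm]
  have himg : (vset m N).image rot = vset m N :=
    eq_of_subset_of_card_le (fun x hx => by
      obtain ⟨v, hv, rfl⟩ := mem_image.mp hx; exact hmem v hv)
      (by rw [card_image_of_injOn hinj])
  have key : ∑ v ∈ vset m N, GI N T μ μ' (lift v) =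
      u (m + 2) N T N * ∑ v ∈ vset m N, GI N T μ μ' (lift v) := by
    conv_lhs => rw [← himg, sum_image hinj]
    rw [mul_sum]
    exact sum_congr rfl hG
  by_contra hne
  exact hω (mul_right_cancel₀ hne (key.symm.trans (one_mul _).symm))

theorem periodic_identity {m N : ℕ} [NeZero N] (a : ℤ) (μ μ' : Fin (m + 2) → ℤ)
    (hsum : ((m + 2 : ℕ) : ℤ) * a = ∑ i, μ i + ∑ i, μ' i) :
    (N : ℂ) * ((univ.filter (fun π : Equiv.Perm (Fin (m + 2)) =>
        π (Fin.last _) = Fin.last _)).card : ℂ) *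
      ∑ v ∈ vset m N, GI N (((m + 2 : ℕ) : ℤ) * a) μ μ' (lift v) =
      ∑ σ : Equiv.Perm (Fin (m + 2)), ∑ τ : Equiv.Perm (Fin (m + 2)),
        ((Equiv.Perm.sign σ : ℤ) : ℂ) * (Equiv.Perm.sign τ : ℤ) *
          ∏ j, ∑ x : Fin N, e N ((μ (σ j) + μ' (τ j) - a) * ((x : ℕ) : ℤ)) := by
  classical
  have hN := NeZero.ne N
  set T := ((m + 2 : ℕ) : ℤ) * a with hT
  have hu : ∀ x, u (m + 2) N T x = e N (-(a * x)) := by
    intro x
    have : (((m + 2 : ℕ) : ℂ)) ≠ 0 := Nat.cast_ne_zero.mpr (by omega)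
    have : (N : ℂ) ≠ 0 := Nat.cast_ne_zero.mpr hN
    rw [u, e, hT]
    congr 1
    rw [Int.cast_mul, Int.cast_natCast]
    push_cast
    have : ((m : ℂ) + 2) ≠ 0 := by exact_mod_cast (show m + 2 ≠ 0 by omega)
    field_simp
  have hexp : ∀ v : Fin (m + 2) → ℤ, GI N T μ μ' v =
      ∑ σ : Equiv.Perm (Fin (m + 2)), ∑ τ : Equiv.Perm (Fin (m + 2)),
        ((Equiv.Perm.sign σ : ℤ) : ℂ) * (Equiv.Perm.sign τ : ℤ) *
          ∏ j, e N ((μ (σ j) + μ' (τ j) - a) * v j) := by
    intro v
    unfold GI A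
    rw [Matrix.det_apply', Matrix.det_apply', mul_assoc, sum_mul_sum, mul_sum]
    refine sum_congr rfl fun σ _ => ?_
    rw [mul_sum]
    refine sum_congr rfl fun τ _ => ?_
    simp only [Matrix.of_apply, hu]
    rw [show ∀ P x y s t : ℂ, P * (s * x * (t * y)) = s * t * (P * x * y) by intros; ring,
      ← prod_mul_distrib, ← prod_mul_distrib]
    congr 1
    refine prod_congr rfl fun j _ => ?_
    rw [← e_add, ← e_add]
    ring_nf
  have hper : ∀ v w : Fin (m + 2) → ℤ, (∀ j, (N : ℤ) ∣ w j - v j) →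
      GI N T μ μ' v = GI N T μ μ' w := by
    intro v w h
    rw [hexp, hexp]
    refine sum_congr rfl fun σ _ => sum_congr rfl fun τ _ => ?_
    congr 1
    exact prod_congr rfl fun j _ => e_congr hN (by rw [← mul_sub]; exact (h j).mul_left _)
  let Z := univ.filter (fun v : Fin (m + 2) → Fin N => v (Fin.last (m + 1)) = 0)
  have htr : ∀ c : Fin N,
      ∑ v ∈ univ.filter (fun v : Fin (m + 2) → Fin N => v (Fin.last (m + 1)) = c),
        GI N T μ μ' (lift v) = ∑ v ∈ Z, GI N T μ μ' (lift v) := by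
    intro c
    refine Finset.sum_nbij' (fun v j => v j - c) (fun v j => v j + c) ?_ ?_ ?_ ?_ ?_
    · intro v hv; simp [Z] at hv ⊢; rw [hv, sub_self]
    · intro v hv; simp [Z] at hv ⊢; simp [hv]
    · intro v _; simp
    · intro v _; simp
    · intro v _
      rw [hper (lift fun j => v j - c) (fun j => lift v j + -((c : ℕ) : ℤ))]
      · exact (GI_add_const hN (by omega) T μ μ' (lift v) hsum _).symm
      · intro j
        have h1 := congrArg (fun x : ℕ => (x : ℤ)) (Fin.val_sub (v j) c)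
        simp only [lift] at h1 ⊢
        push_cast [c.isLt.le] at h1
        rw [h1]
        obtain ⟨q, hq⟩ : ∃ q, ((N : ℤ) - (c : ℕ) + (v j : ℕ)) % (N : ℤ) =
            (N : ℤ) - (c : ℕ) + (v j : ℕ) - N * q :=
          ⟨_, Int.emod_def _ _⟩
        rw [hq]
        exact ⟨q - 1, by ring⟩
  have hZ : (N : ℂ) * ∑ v ∈ Z, GI N T μ μ' (lift v) =
      ∑ v : Fin (m + 2) → Fin N, GI N T μ μ' (lift v) := by
    have h := Finset.sum_fiberwise (univ : Finset (Fin (m + 2) → Fin N))
      (fun v => v (Fin.last (m + 1))) (fun v => GI N T μ μ' (lift v))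
    simp only [htr, sum_const, card_univ, Fintype.card_fin, nsmul_eq_mul] at h
    exact h
  let St := univ.filter (fun π : Equiv.Perm (Fin (m + 2)) => π (Fin.last _) = Fin.last _)
  have hInj : ∑ v ∈ Z.filter (fun v => Function.Injective v), GI N T μ μ' (lift v) =
      ∑ v ∈ Z, GI N T μ μ' (lift v) := by
    rw [sum_filter_of_ne]
    intro v _ hne
    by_contra hv
    obtain ⟨i, j, hij, hne'⟩ := Function.not_injective_iff.mp hv
    apply hne
    have : A N μ (lift v) = 0 :=
      Matrix.det_zero_of_column_eq hne' (fun x => by simp [lift, hij])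
    simp [GI, this]
  have hsplit : ∑ p ∈ St ×ˢ vset m N, GI N T μ μ' (lift p.2) =
      ∑ v ∈ Z.filter (fun v => Function.Injective v), GI N T μ μ' (lift v) := by
    refine Finset.sum_bij (fun p _ j => p.2 (p.1 j)) ?_ ?_ ?_ ?_
    · rintro ⟨π, w⟩ hp
      simp only [mem_product, St, mem_filter, mem_univ, true_and, mem_vset] at hp
      simp only [Z, mem_filter, mem_univ, true_and, hp.1, hp.2.2]
      exact hp.2.1.injective.comp π.injective
    · rintro ⟨π, w⟩ hp ⟨π', w'⟩ hp' h
      simp only [mem_product, St, mem_filter, mem_univ, true_and, mem_vset] at hp hp'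
      have hr : Set.range w = Set.range w' := by
        have := congrArg Set.range (show w ∘ π = w' ∘ π' from h)
        rwa [π.surjective.range_comp, π'.surjective.range_comp] at this
      have hw : w = w' := by
        have h1 : StrictMono (w ∘ Fin.rev) := hp.2.1.comp Fin.rev_strictAnti
        have h2 : StrictMono (w' ∘ Fin.rev) := hp'.2.1.comp Fin.rev_strictAnti
        have h3 := (h1.range_inj h2).mp (by
          rw [Fin.rev_surjective.range_comp, Fin.rev_surjective.range_comp, hr])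
        ext i
        have := congrFun h3 i.rev
        simp only [Function.comp_apply, Fin.rev_rev] at this
        rw [this]
      subst hw
      rw [Prod.mk.injEq]
      exact ⟨Equiv.ext fun j => hp.2.1.injective (congrFun h j), rfl⟩
    · intro v hv
      simp only [Z, mem_filter, mem_univ, true_and] at hv
      let τ : Equiv.Perm (Fin (m + 2)) := Fin.revPerm.trans (Tuple.sort v)
      have hanti : StrictAnti (fun i => v (τ i)) :=
        (((Tuple.monotone_sort v).strictMono_of_injective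
          (hv.2.comp (Tuple.sort v).injective))).comp_strictAnti Fin.rev_strictAnti
      have hlast : v (τ (Fin.last (m + 1))) = 0 := by
        have := hanti.antitone (Fin.le_last (τ.symm (Fin.last (m + 1))))
        simp only [Equiv.apply_symm_apply, hv.1] at this
        exact le_antisymm this (Fin.zero_le _)
      refine ⟨(τ⁻¹, fun i => v (τ i)), ?_, ?_⟩
      · simp only [mem_product, St, mem_filter, mem_univ, true_and, mem_vset]
        refine ⟨?_, hanti, hlast⟩
        rw [Equiv.Perm.inv_eq_iff_eq]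
        exact hv.2 (hv.1.trans hlast.symm)
      · ext j; simp
    · rintro ⟨π, w⟩ _
      exact (GI_perm N T μ μ' (lift w) π).symm
  rw [sum_product, hInj] at hsplit
  simp only [sum_const, nsmul_eq_mul] at hsplit
  rw [mul_assoc, hsplit, hZ]
  simp only [hexp]
  rw [sum_comm]
  refine sum_congr rfl fun σ _ => ?_
  rw [sum_comm]
  refine sum_congr rfl fun τ _ => ?_
  simp only [lift]
  rw [← mul_sum, ← Fintype.prod_sum (fun j (x : Fin N) =>
    e N ((μ (σ j) + μ' (τ j) - a) * ((x : ℕ) : ℤ)))]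

theorem sum_eq_zero_of_periodic {m N : ℕ} [NeZero N] (a : ℤ) (μ μ' : Fin (m + 2) → ℤ)
    (hμ : ∀ σ τ : Equiv.Perm (Fin (m + 2)), ∃ j, ¬ (N : ℤ) ∣ μ (σ j) + μ' (τ j) - a)
    (hsum : ((m + 2 : ℕ) : ℤ) * a = ∑ i, μ i + ∑ i, μ' i) :
    ∑ v ∈ vset m N, GI N (((m + 2 : ℕ) : ℤ) * a) μ μ' (lift v) = 0 := by
  classical
  have h := periodic_identity (N := N) a μ μ' hsum
  rw [sum_eq_zero (s := (univ : Finset (Equiv.Perm (Fin (m + 2))))) fun σ _ =>
    sum_eq_zero fun τ _ => by
      obtain ⟨j, hj⟩ := hμ σ τ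
      rw [prod_eq_zero (mem_univ j) (sum_e_mul (NeZero.ne N) hj), mul_zero]] at h
  refine (mul_eq_zero.mp h).resolve_left (mul_ne_zero (Nat.cast_ne_zero.mpr (NeZero.ne N))
    (Nat.cast_ne_zero.mpr (card_ne_zero_of_mem (a := 1) ?_)))
  simp

theorem combinatorics {r : ℕ} {N : ℕ} (hr : 0 < r) (a : ℤ) (μ μ' : Fin r → ℤ)
    (hμ : StrictAnti μ) (hμ' : StrictAnti μ') (h0 : ∀ i, 0 ≤ μ i ∧ μ i < N)
    (h0' : ∀ i, 0 ≤ μ' i ∧ μ' i < N) (hz : ∀ i : Fin r, (i : ℕ) = r - 1 → μ i = 0)
    (hz' : ∀ i : Fin r, (i : ℕ) = r - 1 → μ' i = 0)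
    (hsum : (r : ℤ) * a = ∑ i, μ i + ∑ i, μ' i) (σ τ : Equiv.Perm (Fin r))
    (hdvd : ∀ j, (N : ℤ) ∣ μ (σ j) + μ' (τ j) - a) :
    ∀ i, μ i + μ' i.rev = a := by
  classical
  let π : Equiv.Perm (Fin r) := σ.symm.trans τ
  have hd : ∀ i, (N : ℤ) ∣ μ i + μ' (π i) - a := fun i => by
    simpa [π] using hdvd (σ.symm i)
  let l : Fin r := ⟨r - 1, by omega⟩
  set a₀ := μ' (π l) with ha₀
  have hl : μ l = 0 := hz l rfl
  have h1 : ∀ i, μ i + μ' (π i) = a₀ ∨ μ i + μ' (π i) = a₀ + N := by
    intro i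
    obtain ⟨q, hq⟩ := (hd i).sub (hd l)
    rw [hl] at hq
    have := h0 i; have := h0' (π i); have := h0' (π l)
    have hq1 : q ≤ 1 := by nlinarith
    have hq2 : -1 ≤ q := by nlinarith
    rcases (show q = -1 ∨ q = 0 ∨ q = 1 by omega) with rfl | rfl | rfl
    · exfalso
      have e0 := hz' l rfl
      obtain ⟨j, hj⟩ := π.surjective l
      obtain ⟨q', hq'⟩ := (hd i).sub (hd j)
      rw [hj, e0] at hq'
      have := h0 j
      have hge : μ' (π l) ≥ N := by omega
      omega
    · left; simp only [ha₀]; omega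
    · right; simp only [ha₀]; omega
  obtain ⟨b, hb⟩ := hd l
  rw [hl] at hb
  have hs : (r : ℤ) * a = ∑ i, (μ i + μ' (π i)) := by
    rw [sum_add_distrib, Equiv.sum_comp π μ', hsum]
  have hlo : (r : ℤ) * a₀ ≤ (r : ℤ) * a := by
    rw [hs]
    have : (r : ℤ) * a₀ = ∑ _i : Fin r, a₀ := by simp
    rw [this]
    exact sum_le_sum fun i _ => by rcases h1 i with h | h <;> omega
  have hhi : (r : ℤ) * a < (r : ℤ) * (a₀ + N) := by
    rw [hs]
    have : (r : ℤ) * (a₀ + N) = ∑ _i : Fin r, (a₀ + N) := by simp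
    rw [this]
    refine sum_lt_sum (fun i _ => by rcases h1 i with h | h <;> omega) ⟨l, mem_univ _, ?_⟩
    rw [hl, zero_add]
    have : 0 < (N : ℤ) := by have := h0 l; omega
    omega
  have hr' : (0 : ℤ) < r := by exact_mod_cast hr
  have hlo' : a₀ ≤ a := le_of_mul_le_mul_left hlo hr'
  have hhi' : a < a₀ + N := lt_of_mul_lt_mul_left hhi hr'.le
  have haa : a = a₀ := by
    have hb1 : b ≤ 0 := by nlinarith
    have hb2 : 0 ≤ b := by nlinarith
    have : b = 0 := by omega
    subst this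
    omega
  have hall : ∀ i, μ i + μ' (π i) = a₀ := by
    intro i
    by_contra hne
    have hgt : ∑ _i : Fin r, a₀ < ∑ i, (μ i + μ' (π i)) :=
      sum_lt_sum (fun j _ => by rcases h1 j with h | h <;> omega) ⟨i, mem_univ _, by
        rcases h1 i with h | h
        · exact absurd h hne
        · have : 0 < (N : ℤ) := by have := h0 l; omega
          omega⟩
    rw [← hs, haa] at hgt
    simp at hgt
  have hanti : StrictAnti π := fun i j hij => by
    have := hμ hij
    have hi := hall i; have hj := hall j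
    by_contra h
    push Not at h
    have := hμ'.antitone h
    omega
  intro i
  have hmono : StrictMono (Fin.rev ∘ π) := Fin.rev_strictAnti.comp hanti
  have hid : Fin.rev ∘ π = id := (hmono.range_inj strictMono_id).mp (by
    rw [(Fin.rev_surjective.comp π.surjective).range_eq, Set.range_id])
  have hπi : π i = i.rev := by
    have := congrFun hid i
    simp only [Function.comp_apply, id_eq] at this
    rw [← this, Fin.rev_rev, this]
  rw [← hπi, haa]
  exact hall i

end Groth.Agent.VerlindeCombLib
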